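import Groth.Agent.Sga4B.ClopenRank
import Mathlib.RingTheory.LocalRing.Module

/-!
# The rank of a composite of finite flat morphisms
-/

set_option autoImplicit false
universe u
set_option linter.unusedSectionVars false

open CategoryTheory CategoryTheory.Limits AlgebraicGeometry TensorProduct

namespace Groth.Agent.Etdl.H445.RankComp

open Groth.Agent.Sga4B.ClopenRank

/-! ### algebra -/

theorem exists_basis_of_rankAtStalk {A M : Type*} [CommRing A] [Finite (MaximalSpectrum A)]
    [AddCommGroup M] [Module A M] [Module.Finite A M] [Module.Flat A M] (n : ℕ)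
    (h : ∀ p, Module.rankAtStalk (R := A) M p = n) : Nonempty (Module.Basis (Fin n) A M) := by
  apply Module.nonempty_basis_of_flat_of_finrank_eq A M n
  intro P
  let := Ideal.Quotient.field P.asIdeal
  have e1 := Module.rankAtStalk_baseChange (R := A) (M := M) (S := A ⧸ P.asIdeal) ⟨⊥, Ideal.isPrime_bot⟩
  rw [h, Module.rankAtStalk_eq_finrank_of_free] at e1
  exact e1

theorem finrank_mul_of_rankAtStalk (k : Type*) {A M : Type*} [Field k] [CommRing A] [Algebra k A]
    [Module.Finite k A] [AddCommGroup M] [Module A M] [Module k M] [IsScalarTower k A M]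
    [Module.Finite A M] [Module.Flat A M] (n : ℕ)
    (h : ∀ p, Module.rankAtStalk (R := A) M p = n) : Module.finrank k M = n * Module.finrank k A := by
  have : IsArtinianRing A := IsArtinianRing.of_finite k A
  obtain ⟨b⟩ := exists_basis_of_rankAtStalk (A := A) (M := M) n h
  rw [((b.equivFun).restrictScalars k).finrank_eq, Module.finrank_pi_fintype]
  simp

/-! ### schemes -/

theorem finrank_comp_spec {k A B : CommRingCat.{u}} (hk : IsField k) (a : k ⟶ A) (b : A ⟶ B)
    [IsFinite (Spec.map a)] [Flat (Spec.map a)] [IsFinite (Spec.map b)] [Flat (Spec.map b)] (n : ℕ)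
    (h : ∀ y, (Spec.map b).finrank y = n) (s : Spec k) :
    (Spec.map b ≫ Spec.map a).finrank s = n * (Spec.map a).finrank s := by
  let := hk.toField
  have ha1 : a.hom.Finite := (IsFinite.SpecMap_iff _).1 inferInstance
  have ha2 : a.hom.Flat := (Flat.SpecMap_iff).1 inferInstance
  have hb1 : b.hom.Finite := (IsFinite.SpecMap_iff _).1 inferInstance
  have hb2 : b.hom.Flat := (Flat.SpecMap_iff).1 inferInstance
  algebraize [a.hom, b.hom, b.hom.comp a.hom]
  have e0 : Spec.map b ≫ Spec.map a = Spec.map (CommRingCat.ofHom (algebraMap k B)) := by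
    rw [← Spec.map_comp]; rfl
  have e1 : Spec.map a = Spec.map (CommRingCat.ofHom (algebraMap k A)) := rfl
  have e2 : Spec.map b = Spec.map (CommRingCat.ofHom (algebraMap A B)) := rfl
  have hf : Module.Finite k B := Module.Finite.trans A B
  rw [e0, e1, Scheme.Hom.finrank_SpecMap_algebraMap, Scheme.Hom.finrank_SpecMap_algebraMap,
    Module.rankAtStalk_eq_finrank_of_free, Module.rankAtStalk_eq_finrank_of_free]
  apply finrank_mul_of_rankAtStalk k (A := A) (M := B) n
  intro p
  rw [← h p, e2, Scheme.Hom.finrank_SpecMap_algebraMap]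

theorem finrank_comp_field {X Y : Scheme.{u}} {k : CommRingCat.{u}} (hk : IsField k)
    (h : X ⟶ Y) (g : Y ⟶ Spec k) [IsFinite h] [Flat h] [IsFinite g] [Flat g] (n : ℕ)
    (hn : ∀ y, h.finrank y = n) (s : Spec k) :
    (h ≫ g).finrank s = n * g.finrank s := by
  have : IsAffine Y := isAffine_of_isAffineHom g
  have : IsAffine X := isAffine_of_isAffineHom h
  obtain ⟨a, ha⟩ := Spec.map_surjective (Y.isoSpec.inv ≫ g)
  obtain ⟨b, hb⟩ := Spec.map_surjective (X.isoSpec.inv ≫ h ≫ Y.isoSpec.hom)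
  have i1 : IsFinite (Spec.map a) := by rw [ha]; infer_instance
  have i2 : Flat (Spec.map a) := by rw [ha]; infer_instance
  have i3 : IsFinite (Spec.map b) := by rw [hb]; infer_instance
  have i4 : Flat (Spec.map b) := by rw [hb]; infer_instance
  have e := finrank_comp_spec hk a b n (fun y => by
    rw [hb, Scheme.Hom.finrank_comp_left_of_isIso X.isoSpec.inv]
    have sq : IsPullback (𝟙 X) (h ≫ Y.isoSpec.hom) h Y.isoSpec.inv :=
      IsPullback.of_horiz_isIso ⟨by simp⟩
    rw [Scheme.Hom.finrank_of_isPullback _ _ _ _ sq]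
    exact hn _) s
  have e3 : (X.isoSpec.inv ≫ h ≫ Y.isoSpec.hom) ≫ Y.isoSpec.inv ≫ g = X.isoSpec.inv ≫ h ≫ g := by
    simp
  rw [ha, hb, e3, Scheme.Hom.finrank_comp_left_of_isIso X.isoSpec.inv (h ≫ g),
    Scheme.Hom.finrank_comp_left_of_isIso Y.isoSpec.inv g] at e
  exact e

/-- the rank of a composite, if the first morphism has constant rank -/
theorem finrank_comp_of_const {X Y S : Scheme.{u}} (h : X ⟶ Y) (g : Y ⟶ S) [IsFinite h] [Flat h]
    [IsFinite g] [Flat g] (n : ℕ) (hn : ∀ y, h.finrank y = n) (s : S) :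
    (h ≫ g).finrank s = n * g.finrank s := by
  let i := S.fromSpecResidueField s
  have sq1 : IsPullback (pullback.fst g i) (pullback.snd g i) g i := IsPullback.of_hasPullback g i
  have sq2 : IsPullback (pullback.fst h (pullback.fst g i)) (pullback.snd h (pullback.fst g i)) h
    (pullback.fst g i) := IsPullback.of_hasPullback _ _
  have sq3 := sq2.paste_vert sq1
  let x : Spec (S.residueField s) := default
  have hx : i x = s := Scheme.fromSpecResidueField_apply s x
  rw [← hx, ← Scheme.Hom.finrank_of_isPullback _ _ _ _ sq3, ← Scheme.Hom.finrank_of_isPullback _ _ _ _ sq1]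
  apply finrank_comp_field (Field.toIsField (S.residueField s))
  intro y
  rw [Scheme.Hom.finrank_of_isPullback _ _ _ _ sq2, hn]

/-! ### colourings -/

section Colouring

variable {X Y S : Scheme.{u}} {κ : Type u}

theorem finrank_comp_colouring [Fintype κ] (a : X ⟶ Y) (g : Y ⟶ S) [IsFinite a] [Flat a]
    [IsFinite g] [Flat g] (ρ : Y → κ) (hρ : IsLocallyConstant ρ) (φ : κ → ℕ)
    (hφ : ∀ y, a.finrank y = φ (ρ y)) (s : S) :
    (a ≫ g).finrank s = ∑ k, rk g ρ hρ k s * φ k := by
  have hc : IsLocallyConstant (fun x => ρ (a x)) := hρ.comp_continuous a.continuous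
  rw [finrank_eq_sum_rk (a ≫ g) (fun x => ρ (a x)) hc s]
  refine Finset.sum_congr rfl fun k _ => ?_
  have e1 : (a ⁻¹ᵁ (piece ρ hρ k)).ι ≫ a ≫ g =
      (a ∣_ (piece ρ hρ k)) ≫ (piece ρ hρ k).ι ≫ g := by
    rw [← Category.assoc, ← Category.assoc, morphismRestrict_ι]
  have h1 : IsFinite (a ∣_ (piece ρ hρ k)) :=
    MorphismProperty.of_isPullback (isPullback_morphismRestrict a (piece ρ hρ k)).flip inferInstance
  have h2 : Flat (a ∣_ (piece ρ hρ k)) :=
    MorphismProperty.of_isPullback (isPullback_morphismRestrict a (piece ρ hρ k)).flip inferInstance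
  have e2 : rk (a ≫ g) (fun x => ρ (a x)) hc k s = ((a ⁻¹ᵁ (piece ρ hρ k)).ι ≫ a ≫ g).finrank s := rfl
  rw [e2, e1, finrank_comp_of_const (a ∣_ (piece ρ hρ k)) ((piece ρ hρ k).ι ≫ g) (φ k) ?_ s, rk,
    mul_comm]
  intro y
  rw [Scheme.Hom.finrank_of_isPullback _ _ _ _ (isPullback_morphismRestrict a (piece ρ hρ k)).flip,
    hφ]
  exact congrArg φ y.2

theorem rk_comp_colouring {ι : Type u} [Fintype κ] (h : X ⟶ Y) (g : Y ⟶ S) [IsFinite h] [Flat h]
    [IsFinite g] [Flat g] (c : X → ι) (hc : IsLocallyConstant c)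
    (ρ : Y → κ) (hρ : IsLocallyConstant ρ) (φ : κ → ι → ℕ)
    (hφ : ∀ i y, rk h c hc i y = φ (ρ y) i) (i : ι) (s : S) :
    rk (h ≫ g) c hc i s = ∑ k, rk g ρ hρ k s * φ k i := by
  rw [rk, ← Category.assoc]
  exact finrank_comp_colouring ((piece c hc i).ι ≫ h) g ρ hρ (fun k => φ k i) (fun y => hφ i y) s

end Colouring

end Groth.Agent.Etdl.H445.RankComp
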