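import Groth.Agent.Etdl.H445.TraceVar2

/-!
# (Var 2) and (Var 4) for the trace of finite locally free morphisms, verbatim
-/

set_option autoImplicit false
universe u
set_option linter.unusedSectionVars false

open CategoryTheory CategoryTheory.Limits AlgebraicGeometry Opposite

namespace Groth.Agent.Etdl.H445.TraceGen

open Groth.Agent.Etdl.H445.TraceCalc Groth.Agent.Etdl.H445.TraceVar2

/-- the value of a natural transformation `P ⋙ Q ⟶ 𝟭` -/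
def trG {X S : Scheme.{u}} (P : EtCoh.Ab S ⥤ EtCoh.Ab X) (Q : EtCoh.Ab X ⥤ EtCoh.Ab S)
    (T : P ⋙ Q ⟶ 𝟭 (EtCoh.Ab S)) (F : EtCoh.Ab S) : Q.obj (P.obj F) ⟶ F := T.app F

theorem var2_generic {X S X' S' : Scheme.{u}} (Pf : EtCoh.Ab S ⥤ EtCoh.Ab X)
    (Pg' : EtCoh.Ab X ⥤ EtCoh.Ab X')
    (Pg : EtCoh.Ab S ⥤ EtCoh.Ab S') (Pf' : EtCoh.Ab S' ⥤ EtCoh.Ab X')
    (P₁ P₂ : EtCoh.Ab S ⥤ EtCoh.Ab X')
    (Qf : EtCoh.Ab X ⥤ EtCoh.Ab S) (Qf' : EtCoh.Ab X' ⥤ EtCoh.Ab S')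
    (α : P₁ ≅ Pf ⋙ Pg') (β : P₁ ≅ P₂) (γ : P₂ ≅ Pg ⋙ Pf')
    (T : Pf ⋙ Qf ⟶ 𝟭 (EtCoh.Ab S)) (T' : Pf' ⋙ Qf' ⟶ 𝟭 (EtCoh.Ab S')) (F : EtCoh.Ab S)
    (b : Pg.obj (Qf.obj (Pf.obj F)) ⟶ Qf'.obj (Pg'.obj (Pf.obj F)))
    (h : b ≫ Qf'.map (muG Pf Pg' Pg Pf' P₁ P₂ α β γ F) ≫ trG Pf' Qf' T' (Pg.obj F) =
      Pg.map (trG Pf Qf T F)) :
    b ≫ Qf'.map (α.inv.app F ≫ β.hom.app F ≫ γ.hom.app F) ≫ T'.app (Pg.obj F) =
      Pg.map (T.app F) := h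

/-- the trace of a finite locally free morphism, as a natural transformation -/
noncomputable def Tr {X S : Scheme.{u}} (f : X ⟶ S) [IsFinite f] [Flat f]
    [LocallyOfFinitePresentation f] : EtCoh.pull f ⋙ EtCoh.push f ⟶ 𝟭 (EtCoh.Ab S) :=
  Groth.Agent.Sga4B.TraceMap.trace f (locSplit f)

theorem trG_Tr {X S : Scheme.{u}} (f : X ⟶ S) [IsFinite f] [Flat f]
    [LocallyOfFinitePresentation f] (F : EtCoh.Ab S) :
    trG (EtCoh.pull f) (EtCoh.push f) (Tr f) F = tr f F := rfl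

/-- (Var 2) -/
theorem var2 ⦃X S X' S' : Scheme.{u}⦄ (f : X ⟶ S) (g : S' ⟶ S) (f' : X' ⟶ S') (g' : X' ⟶ X)
    (hc : IsPullback g' f' f g)
    [IsFinite f] [Flat f] [LocallyOfFinitePresentation f]
    [IsFinite f'] [Flat f'] [LocallyOfFinitePresentation f'] (F : EtCoh.Ab S) :
    EtCoh.baseChange0 f g f' g' hc.w ((EtCoh.pull f).obj F) ≫
      (EtCoh.push f').map ((EtCore.pullComp g' f).inv.app F ≫ (EtCore.pullCongr hc.w).hom.app F ≫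
        (EtCore.pullComp f' g).hom.app F) ≫ (Tr f').app ((EtCoh.pull g).obj F) =
      (EtCoh.pull g).map ((Tr f).app F) :=
  var2_generic (EtCoh.pull f) (EtCoh.pull g') (EtCoh.pull g) (EtCoh.pull f') (EtCoh.pull (g' ≫ f))
    (EtCoh.pull (f' ≫ g)) (EtCoh.push f) (EtCoh.push f') (EtCore.pullComp g' f)
    (EtCore.pullCongr hc.w) (EtCore.pullComp f' g) (Tr f) (Tr f') F
    (EtCoh.baseChange0 f g f' g' hc.w ((EtCoh.pull f).obj F)) (lhs_eq hc F)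

/-- (Var 4) -/
theorem var4 ⦃X S : Scheme.{u}⦄ (f : X ⟶ S) [IsFinite f] [Flat f] [LocallyOfFinitePresentation f]
    (n : ℕ) (hn : ∀ s : S, f.finrank s = n) (F : EtCoh.Ab S) :
    (EtCoh.pullPushAdj f).unit.app F ≫ (Tr f).app F = n • 𝟙 F :=
  Groth.Agent.Sga4B.TraceMap.unit_trace f (locSplit f) hn F

end Groth.Agent.Etdl.H445.TraceGen
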