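import Groth.Agent.Etdl.H445.TraceCalc

/-!
# The trace relation is compatible with base change

`rel_baseChange`: if `τ` is the trace of `t` for `f : X ⟶ S`, then the pullback of `τ` is the trace
of the pullback of `t` for the base change `f' : X' ⟶ S'`.
`var2`: the trace of a finite locally free morphism commutes with base change.
-/

set_option autoImplicit false
universe u
set_option linter.unusedSectionVars false

open CategoryTheory CategoryTheory.Limits AlgebraicGeometry Opposite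

namespace Groth.Agent.Etdl.H445.TraceBC

open Groth.Agent.Sga4B.EtUnit Groth.Agent.Sga4B.TraceRel Groth.Agent.EtpbcB.BCCrit
open Groth.Agent.Sga4B.UnitInj Groth.Agent.Sga4B.ClopenRank Groth.Agent.Etdl.H445.TraceCalc

theorem exists_point {P X Y Z : Scheme.{u}} {a : P ⟶ X} {b : P ⟶ Y} {f : X ⟶ Z} {g : Y ⟶ Z}
    (sq : IsPullback a b f g) (x : X) (y : Y) (h : f x = g y) : ∃ p : P, a p = x ∧ b p = y := by
  obtain ⟨z, hz1, hz2⟩ := Scheme.Pullback.exists_preimage_pullback (f := f) (g := g) x y h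
  refine ⟨sq.isoPullback.inv z, ?_, ?_⟩
  · rw [← Scheme.Hom.comp_apply, IsPullback.isoPullback_inv_fst, hz1]
  · rw [← Scheme.Hom.comp_apply, IsPullback.isoPullback_inv_snd, hz2]

/-- a morphism to `X' ×_X W` whose image in `W` lies in the open `O` factors through `X' ×_X O`. -/
theorem exists_factor {X X' : Scheme.{u}} (g' : X' ⟶ X) (W : X.Etale) (O : W.left.Opens)
    {U : X'.Etale} (k : U ⟶ (EtCoh.bc g').obj W) (hk : ∀ u : U.left, pr g' W (k.left u) ∈ O) :
    ∃ k' : U ⟶ (EtCoh.bc g').obj (openObj W O), k' ≫ (EtCoh.bc g').map (openMap W O) = k := by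
  have hr : Set.range (k.left ≫ pr g' W) ⊆ Set.range (O.ι) := by
    rintro _ ⟨u, rfl⟩
    rw [Scheme.Opens.range_ι]
    exact hk u
  let l : U.left ⟶ (O : Scheme.{u}) := IsOpenImmersion.lift O.ι (k.left ≫ pr g' W) hr
  have hl : l ≫ O.ι = k.left ≫ pr g' W := IsOpenImmersion.lift_fac _ _ _
  have sq := isPullback_map g' (openMap W O)
  let k'' : U.left ⟶ ((EtCoh.bc g').obj (openObj W O)).left :=
    sq.lift k.left l hl.symm
  have hk'' : k'' ≫ ((EtCoh.bc g').map (openMap W O)).left = k.left := sq.lift_fst _ _ _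
  have hw : k'' ≫ ((EtCoh.bc g').obj (openObj W O)).hom = U.hom := by
    have h1 := Over.w ((EtCoh.bc g').map (openMap W O)).hom
    have h1' : ((EtCoh.bc g').map (openMap W O)).left ≫ ((EtCoh.bc g').obj W).hom =
      ((EtCoh.bc g').obj (openObj W O)).hom := h1
    rw [← h1', ← Category.assoc, hk'']
    exact Over.w k.hom
  refine ⟨MorphismProperty.Over.homMk k'' hw, ?_⟩
  apply MorphismProperty.Over.Hom.ext
  exact hk''

section

variable {X S X' S' : Scheme.{u}} {f : X ⟶ S} {g : S' ⟶ S} {f' : X' ⟶ S'} {g' : X' ⟶ X}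

/-- the projection `(X' ×_{S'} V') ⟶ (X ×_S V)`, `V' = S' ×_S V` -/
noncomputable def qq (w : g' ≫ f = f' ≫ g) (V : S.Etale) :
    ((EtCoh.bc f').obj ((EtCoh.bc g).obj V)).left ⟶ ((EtCoh.bc f).obj V).left :=
  (theta f g f' g' w V).hom.left ≫ pr g' ((EtCoh.bc f).obj V)

theorem qq_pr (w : g' ≫ f = f' ≫ g) (V : S.Etale) :
    qq w V ≫ pr f V = pr f' ((EtCoh.bc g).obj V) ≫ pr g V := by
  rw [qq, Category.assoc]
  exact theta_hom_left_fst f g f' g' w V

theorem qq_hom (w : g' ≫ f = f' ≫ g) (V : S.Etale) :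
    qq w V ≫ ((EtCoh.bc f).obj V).hom = ((EtCoh.bc f').obj ((EtCoh.bc g).obj V)).hom ≫ g' := by
  have h1 : pr g' ((EtCoh.bc f).obj V) ≫ ((EtCoh.bc f).obj V).hom =
    ((EtCoh.bc g').obj ((EtCoh.bc f).obj V)).hom ≫ g' := (isPullback_pr g' ((EtCoh.bc f).obj V)).w
  have h2 : (theta f g f' g' w V).hom.left ≫ ((EtCoh.bc g').obj ((EtCoh.bc f).obj V)).hom =
    ((EtCoh.bc f').obj ((EtCoh.bc g).obj V)).hom := Over.w (theta f g f' g' w V).hom.hom
  rw [qq, Category.assoc, h1, ← Category.assoc, h2]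

/-- the cube -/
theorem isPullback_qq (hc : IsPullback g' f' f g) (V : S.Etale) :
    IsPullback (qq hc.w V) (pr f' ((EtCoh.bc g).obj V)) (pr f V) (pr g V) := by
  -- outer rectangle: over `X' ⟶ X`, `S' ⟶ S`
  have h1 : IsPullback (((EtCoh.bc f').obj ((EtCoh.bc g).obj V)).hom ≫ g')
      (pr f' ((EtCoh.bc g).obj V)) f (((EtCoh.bc g).obj V).hom ≫ g) :=
    (isPullback_pr f' ((EtCoh.bc g).obj V)).flip.paste_horiz hc
  have h2 : ((EtCoh.bc g).obj V).hom ≫ g = pr g V ≫ V.hom := (isPullback_pr g V).w.symm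
  have h3 : IsPullback (qq hc.w V ≫ ((EtCoh.bc f).obj V).hom)
      (pr f' ((EtCoh.bc g).obj V)) f (pr g V ≫ V.hom) := by
    rw [qq_hom, ← h2]
    exact h1
  exact IsPullback.of_right h3 (qq_pr hc.w V) (isPullback_pr f V).flip

variable (w : g' ≫ f = f' ≫ g)

/-- pullback of a section of `f⁻¹ F` over `X ×_S V` to `f'⁻¹ g⁻¹ F` -/
noncomputable def tpull (F : EtCoh.Ab S) (V : S.Etale)
    (t : EtCoh.sect ((EtCoh.pull f).obj F) ((EtCoh.bc f).obj V)) :
    EtCoh.sect ((EtCoh.pull f').obj ((EtCoh.pull g).obj F)) ((EtCoh.bc f').obj ((EtCoh.bc g).obj V)) :=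
  (mu f g f' g' w F).hom.app (op ((EtCoh.bc f').obj ((EtCoh.bc g).obj V)))
    (((EtCoh.pull g').obj ((EtCoh.pull f).obj F)).obj.map (theta f g f' g' w V).hom.op
      (usec g' ((EtCoh.pull f).obj F) ((EtCoh.bc f).obj V) t))

theorem tpull_usec (F : EtCoh.Ab S) (V : S.Etale) (m : EtCoh.sect F V) :
    tpull w F V (usec f F V m) = usec f' ((EtCoh.pull g).obj F) ((EtCoh.bc g).obj V) (usec g F V m) :=
  mu_usec' f g f' g' w F V m

theorem split_baseChange {F : EtCoh.Ab S} {V : S.Etale}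
    {t : EtCoh.sect ((EtCoh.pull f).obj F) ((EtCoh.bc f).obj V)}
    {ι : Type u} {c : ((EtCoh.bc f).obj V).left → ι} (hc : IsLocallyConstant c)
    {m : ι → EtCoh.sect F V}
    (h : Split f F V t c m) :
    Split f' ((EtCoh.pull g).obj F) ((EtCoh.bc g).obj V) (tpull w F V t)
      (fun y => c (qq w V y)) (fun i => usec g F V (m i)) := by
  intro i U k hk
  rw [← tpull_usec w F V (m i)]
  rw [tpull, tpull, ← nat_map, ← nat_map, map_map_apply, map_map_apply]
  congr 1
  obtain ⟨k', hk'⟩ := exists_factor g' ((EtCoh.bc f).obj V) (piece c hc i)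
    (k ≫ (theta f g f' g' w V).hom) (fun u => hk u)
  rw [← hk', ← map_map_apply, ← map_map_apply, usec_map, usec_map,
    h i _ (openMap ((EtCoh.bc f).obj V) (piece c hc i)) (fun u => u.2)]

theorem isLocallyConstant_qq {V : S.Etale} {ι : Type u} {c : ((EtCoh.bc f).obj V).left → ι}
    (hc : IsLocallyConstant c) : IsLocallyConstant (fun y => c (qq w V y)) :=
  hc.comp_continuous (qq w V).continuous

theorem isSum_baseChange [IsFinite f] [Flat f] [LocallyOfFinitePresentation f]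
    (sq : IsPullback g' f' f g) {F : EtCoh.Ab S} {V : S.Etale} {τ : EtCoh.sect F V}
    {ι : Type u} [Fintype ι] {c : ((EtCoh.bc f).obj V).left → ι} {hc : IsLocallyConstant c}
    {m : ι → EtCoh.sect F V} (h : IsSum f F V τ c hc m) :
    IsSum f' ((EtCoh.pull g).obj F) ((EtCoh.bc g).obj V) (usec g F V τ)
      (fun y => c (qq sq.w V y)) (isLocallyConstant_qq sq.w hc) (fun i => usec g F V (m i)) := by
  intro W p r _ hr
  apply Groth.Agent.Etbase.EtSite.sect_ext
  intro x
  obtain ⟨V₁, g₁, v₁, hv₁, hr₁⟩ := exists_const_rk V c hc (pr g V (p.left x))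
  have hr2 : ∀ i (v' : V₁.left), rk (pr f V) c hc i (g₁.left v') = r i := by
    intro i v'
    rw [hr₁ i v', ← hr i x]
    exact (rk_baseChange (isPullback_qq sq V) c hc _ (isLocallyConstant_qq sq.w hc)
      (fun _ => rfl) i (p.left x)).symm
  have e := h V₁ g₁ r ⟨v₁⟩ hr2
  obtain ⟨y, hy, -⟩ := exists_point (isPullback_map g g₁) (p.left x) v₁ hv₁.symm
  obtain ⟨Q, a, b, q, hab, ha, -⟩ := Groth.Agent.Etbase.EtSite.exists_pullback p
    ((EtCoh.bc g).map g₁) x y hy.symm
  refine ⟨Q, a, q, ha, ?_⟩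
  rw [map_sum, map_map_apply, hab, ← map_map_apply, usec_map, e, map_sum, map_sum]
  refine Finset.sum_congr rfl fun i _ => ?_
  rw [map_nsmul, map_nsmul, map_nsmul, map_map_apply, hab, ← map_map_apply, usec_map]

/-- the trace relation is compatible with base change -/
theorem rel_baseChange [IsFinite f] [Flat f] [LocallyOfFinitePresentation f]
    (sq : IsPullback g' f' f g) {F : EtCoh.Ab S} {V : S.Etale}
    {t : EtCoh.sect ((EtCoh.pull f).obj F) ((EtCoh.bc f).obj V)} {τ : EtCoh.sect F V}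
    (h : Rel f F V t τ) :
    Rel f' ((EtCoh.pull g).obj F) ((EtCoh.bc g).obj V) (tpull sq.w F V t) (usec g F V τ) := by
  obtain ⟨ι, _, c, hc, m, h1, h2⟩ := h
  exact ⟨ι, inferInstance, _, isLocallyConstant_qq sq.w hc, _, split_baseChange sq.w hc h1,
    isSum_baseChange sq h2⟩

end

end Groth.Agent.Etdl.H445.TraceBC
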