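import Groth.Agent.Sga4B.TraceMap
import Groth.Agent.EtpbcB.BCCrit
import Groth.Agent.Etcore.HpullCalc

/-!
# Unit sections and the composition / congruence isomorphisms for inverse images

* `pullComp_usec`, `pullCongr_usec`: the isomorphisms `(f ≫ g)⁻¹ ≅ g⁻¹ ⋙ f⁻¹` and `f⁻¹ ≅ f'⁻¹` on unit sections.
* `mu`: the isomorphism `g'⁻¹ f⁻¹ F ≅ f'⁻¹ g⁻¹ F` of a commutative square, `mu_usec` its value on iterated
  unit sections.

The statements about composites of functors are proved for abstract functors first: the kernel is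
very slow at comparing `(pull f ⋙ pull g').obj F` with `(pull g').obj ((pull f).obj F)`.
-/

set_option autoImplicit false
universe u
set_option linter.unusedSectionVars false

open CategoryTheory CategoryTheory.Limits AlgebraicGeometry Opposite

namespace Groth.Agent.Etdl.H445.TraceCalc

open Groth.Agent.Sga4B.EtUnit Groth.Agent.Sga4B.TraceRel Groth.Agent.EtpbcB.BCCrit
open Groth.Agent.Sga4B.UnitInj

/-! ### generalities -/

theorem hom_ext_bc {X Y : Scheme.{u}} (f : X ⟶ Y) (V : Y.Etale) {U : X.Etale}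
    (a b : U ⟶ (EtCoh.bc f).obj V) (h : a.left ≫ pr f V = b.left ≫ pr f V) : a = b := by
  apply MorphismProperty.Over.Hom.ext
  refine pullback.hom_ext h ?_
  exact (Over.w a.hom).trans (Over.w b.hom).symm

/-- naturality of a morphism of sheaves, on elements -/
theorem nat_map {X : Scheme.{u}} {F G : EtCoh.Ab X} (φ : F ⟶ G) {U V : X.Etale} (g : V ⟶ U)
    (s : EtCoh.sect F U) :
    φ.hom.app (op V) (F.obj.map g.op s) = G.obj.map g.op (φ.hom.app (op U) s) :=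
  ConcreteCategory.congr_hom (φ.hom.naturality g.op) s

theorem hom_inv_apply {X : Scheme.{u}} {F G : EtCoh.Ab X} (φ : F ≅ G) {U : X.Etale}
    (s : EtCoh.sect F U) : φ.inv.hom.app (op U) (φ.hom.hom.app (op U) s) = s := by
  have h := congr($(φ.hom_inv_id).hom.app (op U) s)
  exact h

theorem map_id_apply {X : Scheme.{u}} (F : EtCoh.Ab X) (U : X.Etale) (s : EtCoh.sect F U) :
    F.obj.map (𝟙 U : U ⟶ U).op s = s := by
  rw [op_id, CategoryTheory.Functor.map_id]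
  rfl

theorem comp_app_apply {X : Scheme.{u}} {F G H : EtCoh.Ab X} (φ : F ⟶ G) (ψ : G ⟶ H) (U : X.Etaleᵒᵖ)
    (s : F.obj.obj U) : (φ ≫ ψ).hom.app U s = ψ.hom.app U (φ.hom.app U s) := rfl

theorem three {X : Scheme.{u}} {A B C D : EtCoh.Ab X} (φ₁ : A ⟶ B) (φ₂ : B ⟶ C) (φ₃ : C ⟶ D)
    {U₀ U₁ U₂ U₃ : X.Etale} (i₁ : U₀ ⟶ U₁) (i₂ : U₁ ⟶ U₂) (i₃ : U₂ ⟶ U₃)
    (a : EtCoh.sect A U₀) (b : EtCoh.sect B U₁) (c : EtCoh.sect C U₂) (d : EtCoh.sect D U₃)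
    (h₁ : φ₁.hom.app (op U₀) a = B.obj.map i₁.op b) (h₂ : φ₂.hom.app (op U₁) b = C.obj.map i₂.op c)
    (h₃ : φ₃.hom.app (op U₂) c = D.obj.map i₃.op d) :
    (φ₁ ≫ φ₂ ≫ φ₃).hom.app (op U₀) a = D.obj.map ((i₁ ≫ i₂) ≫ i₃).op d := by
  rw [comp_app_apply, comp_app_apply, h₁, nat_map, h₂, map_map_apply, nat_map, h₃, map_map_apply]

/-! ### the isomorphisms between iterated pullbacks of étale schemes -/

/-- `(f ≫ g)`-pullback of `V` as an iterated pullback -/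
noncomputable def cmp {X Y Z : Scheme.{u}} (f : X ⟶ Y) (g : Y ⟶ Z) (V : Z.Etale) :
    (EtCoh.bc (f ≫ g)).obj V ≅ (EtCoh.bc f).obj ((EtCoh.bc g).obj V) :=
  (MorphismProperty.Over.pullbackComp (P := EtCoh.etaleMP) (Q := ⊤) f g).app V

/-- pullback along equal morphisms -/
noncomputable def cgr {X Y : Scheme.{u}} {f f' : X ⟶ Y} (h : f = f') (V : Y.Etale) :
    (EtCoh.bc f).obj V ≅ (EtCoh.bc f').obj V :=
  (MorphismProperty.Over.pullbackCongr (P := EtCoh.etaleMP) (Q := ⊤) h).app V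

theorem cmp_hom_left {X Y Z : Scheme.{u}} (f : X ⟶ Y) (g : Y ⟶ Z) (V : Z.Etale) :
    (cmp f g V).hom.left ≫ pr f ((EtCoh.bc g).obj V) ≫ pr g V = pr (f ≫ g) V :=
  MorphismProperty.Over.pullbackComp_left_fst_fst (P := EtCoh.etaleMP) (Q := ⊤) f g V

theorem cgr_hom_left {X Y : Scheme.{u}} {f f' : X ⟶ Y} (h : f = f') (V : Y.Etale) :
    (cgr h V).hom.left ≫ pr f' V = pr f V :=
  MorphismProperty.Over.pullbackCongr_hom_app_left_fst (P := EtCoh.etaleMP) (Q := ⊤) h V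

theorem cgr_rfl {X Y : Scheme.{u}} (f : X ⟶ Y) (V : Y.Etale) : (cgr (rfl : f = f) V).hom = 𝟙 _ := by
  refine hom_ext_bc f V _ _ ?_
  refine (cgr_hom_left (rfl : f = f) V).trans ?_
  exact (Category.id_comp _).symm

/-! ### abstract functors -/

section Generic

variable {X S X' S' : Scheme.{u}} (Pf : EtCoh.Ab S ⥤ EtCoh.Ab X) (Pg' : EtCoh.Ab X ⥤ EtCoh.Ab X')
  (Pg : EtCoh.Ab S ⥤ EtCoh.Ab S') (Pf' : EtCoh.Ab S' ⥤ EtCoh.Ab X') (P₁ P₂ : EtCoh.Ab S ⥤ EtCoh.Ab X')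

/-- the value of a natural transformation to a composite functor -/
def toComp (α : P₁ ⟶ Pf ⋙ Pg') (F : EtCoh.Ab S) : P₁.obj F ⟶ Pg'.obj (Pf.obj F) := α.app F

/-- the value of a natural transformation from a composite functor -/
def fromComp (α : Pf ⋙ Pg' ⟶ P₁) (F : EtCoh.Ab S) : Pg'.obj (Pf.obj F) ⟶ P₁.obj F := α.app F

/-- the comparison of a square -/
def muG (α : P₁ ≅ Pf ⋙ Pg') (β : P₁ ≅ P₂) (γ : P₂ ≅ Pg ⋙ Pf') (F : EtCoh.Ab S) :
    Pg'.obj (Pf.obj F) ⟶ Pf'.obj (Pg.obj F) :=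
  α.inv.app F ≫ β.hom.app F ≫ γ.hom.app F

theorem muG_eq (α : P₁ ≅ Pf ⋙ Pg') (β : P₁ ≅ P₂) (γ : P₂ ≅ Pg ⋙ Pf') (F : EtCoh.Ab S) :
    muG Pf Pg' Pg Pf' P₁ P₂ α β γ F =
      fromComp Pf Pg' P₁ α.inv F ≫ β.hom.app F ≫ toComp Pg Pf' P₂ γ.hom F := rfl

theorem from_to_apply (α : P₁ ≅ Pf ⋙ Pg') (F : EtCoh.Ab S) {U : X'.Etale}
    (s : EtCoh.sect (P₁.obj F) U) :
    (fromComp Pf Pg' P₁ α.inv F).hom.app (op U) ((toComp Pf Pg' P₁ α.hom F).hom.app (op U) s) = s :=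
  hom_inv_apply (α.app F) s

theorem unit_toComp (Qf : EtCoh.Ab X ⥤ EtCoh.Ab S) (Qg' : EtCoh.Ab X' ⥤ EtCoh.Ab X)
    (Q₁ : EtCoh.Ab X' ⥤ EtCoh.Ab S) (ηf : 𝟭 _ ⟶ Pf ⋙ Qf) (ηg : 𝟭 _ ⟶ Pg' ⋙ Qg') (η₁ : 𝟭 _ ⟶ P₁ ⋙ Q₁)
    (α : P₁ ≅ Pf ⋙ Pg') (ε : Qg' ⋙ Qf ≅ Q₁) (F : EtCoh.Ab S)
    (h : η₁.app F ≫ Q₁.map (α.hom.app F) = ηf.app F ≫ Qf.map (ηg.app _) ≫ ε.hom.app _) :
    toComp P₁ Q₁ (𝟭 _) η₁ F ≫ Q₁.map (toComp Pf Pg' P₁ α.hom F) =
      toComp Pf Qf (𝟭 _) ηf F ≫ Qf.map (toComp Pg' Qg' (𝟭 _) ηg (Pf.obj F)) ≫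
        fromComp Qg' Qf Q₁ ε.hom (Pg'.obj (Pf.obj F)) := h

end Generic

/-- the canonical morphism `(f ≫ g)⁻¹ F ⟶ f⁻¹ g⁻¹ F` -/
noncomputable def pc {X Y Z : Scheme.{u}} (f : X ⟶ Y) (g : Y ⟶ Z) (F : EtCoh.Ab Z) :
    (EtCoh.pull (f ≫ g)).obj F ⟶ (EtCoh.pull f).obj ((EtCoh.pull g).obj F) :=
  toComp (EtCoh.pull g) (EtCoh.pull f) _ (EtCore.pullComp f g).hom F

/-- its inverse -/
noncomputable def pci {X Y Z : Scheme.{u}} (f : X ⟶ Y) (g : Y ⟶ Z) (F : EtCoh.Ab Z) :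
    (EtCoh.pull f).obj ((EtCoh.pull g).obj F) ⟶ (EtCoh.pull (f ≫ g)).obj F :=
  fromComp (EtCoh.pull g) (EtCoh.pull f) _ (EtCore.pullComp f g).inv F

theorem pc_usec {X Y Z : Scheme.{u}} (f : X ⟶ Y) (g : Y ⟶ Z) (F : EtCoh.Ab Z) (V : Z.Etale)
    (m : EtCoh.sect F V) :
    (pc f g F).hom.app (op ((EtCoh.bc (f ≫ g)).obj V)) (usec (f ≫ g) F V m) =
      ((EtCoh.pull f).obj ((EtCoh.pull g).obj F)).obj.map (cmp f g V).hom.op
        (usec f ((EtCoh.pull g).obj F) ((EtCoh.bc g).obj V) (usec g F V m)) := by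
  have h := congr($(unit_toComp (EtCoh.pull g) (EtCoh.pull f) _ (EtCoh.push g) (EtCoh.push f) _
    (EtCoh.pullPushAdj g).unit (EtCoh.pullPushAdj f).unit (EtCoh.pullPushAdj (f ≫ g)).unit
    (EtCore.pullComp f g) (EtCoh.pushComp g f) F
    (Groth.Agent.Etcore.HpullCalc.unit_pullComp f g F)).hom.app (op V) m)
  refine h.trans ?_
  simp [EtCoh.pushComp, fromComp]
  rfl

theorem pci_pc_apply {X Y Z : Scheme.{u}} (f : X ⟶ Y) (g : Y ⟶ Z) (F : EtCoh.Ab Z) {U : X.Etale}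
    (s : EtCoh.sect ((EtCoh.pull (f ≫ g)).obj F) U) :
    (pci f g F).hom.app (op U) ((pc f g F).hom.app (op U) s) = s :=
  from_to_apply (EtCoh.pull g) (EtCoh.pull f) _ (EtCore.pullComp f g) F s

theorem pullCongr_usec {X Y : Scheme.{u}} {f f' : X ⟶ Y} (h : f = f') (F : EtCoh.Ab Y) (V : Y.Etale)
    (m : EtCoh.sect F V) :
    ((EtCore.pullCongr h).hom.app F).hom.app (op ((EtCoh.bc f).obj V)) (usec f F V m) =
      ((EtCoh.pull f').obj F).obj.map (cgr h V).hom.op (usec f' F V m) := by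
  subst h
  rw [cgr_rfl, op_id, CategoryTheory.Functor.map_id]
  rfl

/-- the inverse of `pullComp` on iterated unit sections -/
theorem pci_usec {X Y Z : Scheme.{u}} (f : X ⟶ Y) (g : Y ⟶ Z) (F : EtCoh.Ab Z) (V : Z.Etale)
    (m : EtCoh.sect F V) :
    (pci f g F).hom.app (op ((EtCoh.bc f).obj ((EtCoh.bc g).obj V)))
        (usec f ((EtCoh.pull g).obj F) ((EtCoh.bc g).obj V) (usec g F V m)) =
      ((EtCoh.pull (f ≫ g)).obj F).obj.map (cmp f g V).inv.op (usec (f ≫ g) F V m) := by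
  have h := pc_usec f g F V m
  have h2 := congrArg (((EtCoh.pull f).obj ((EtCoh.pull g).obj F)).obj.map (cmp f g V).inv.op) h
  rw [map_map_apply, Iso.inv_hom_id, map_id_apply] at h2
  rw [← h2, nat_map, pci_pc_apply]

section Square

variable {X S X' S' : Scheme.{u}} (f : X ⟶ S) (g : S' ⟶ S) (f' : X' ⟶ S') (g' : X' ⟶ X)
  (w : g' ≫ f = f' ≫ g)

/-- the canonical morphism `g'⁻¹ f⁻¹ F ⟶ f'⁻¹ g⁻¹ F` -/
noncomputable def mu (F : EtCoh.Ab S) :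
    (EtCoh.pull g').obj ((EtCoh.pull f).obj F) ⟶ (EtCoh.pull f').obj ((EtCoh.pull g).obj F) :=
  muG (EtCoh.pull f) (EtCoh.pull g') (EtCoh.pull g) (EtCoh.pull f') _ _ (EtCore.pullComp g' f)
    (EtCore.pullCongr w) (EtCore.pullComp f' g) F

theorem mu_eq (F : EtCoh.Ab S) :
    mu f g f' g' w F = pci g' f F ≫ (EtCore.pullCongr w).hom.app F ≫ pc f' g F :=
  muG_eq (EtCoh.pull f) (EtCoh.pull g') (EtCoh.pull g) (EtCoh.pull f') _ _ (EtCore.pullComp g' f)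
    (EtCore.pullCongr w) (EtCore.pullComp f' g) F

theorem theta_inv (V : S.Etale) :
    (theta f g f' g' w V).inv = ((cmp g' f V).inv ≫ (cgr w V).hom) ≫ (cmp f' g V).hom := by
  have h : (theta f g f' g' w V).hom ≫
      (((cmp g' f V).inv ≫ (cgr w V).hom) ≫ (cmp f' g V).hom) = 𝟙 _ := by
    have e : (theta f g f' g' w V).hom = (cmp f' g V).inv ≫ (cgr w V).inv ≫ (cmp g' f V).hom := rfl
    rw [e]
    simp
  exact ((theta f g f' g' w V).inv_comp_eq.2 h.symm).symm.trans (Category.comp_id _)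

theorem mu_usec (F : EtCoh.Ab S) (V : S.Etale) (m : EtCoh.sect F V) :
    (mu f g f' g' w F).hom.app (op ((EtCoh.bc g').obj ((EtCoh.bc f).obj V)))
        (usec g' ((EtCoh.pull f).obj F) ((EtCoh.bc f).obj V) (usec f F V m)) =
      ((EtCoh.pull f').obj ((EtCoh.pull g).obj F)).obj.map (theta f g f' g' w V).inv.op
        (usec f' ((EtCoh.pull g).obj F) ((EtCoh.bc g).obj V) (usec g F V m)) := by
  rw [theta_inv, mu_eq]
  exact three (pci g' f F) ((EtCore.pullCongr w).hom.app F) (pc f' g F)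
     (cmp g' f V).inv (cgr w V).hom (cmp f' g V).hom
    _ _ _ _ (pci_usec g' f F V m) (pullCongr_usec w F V m) (pc_usec f' g F V m)

/-- the same, pulled back to `f'⁻¹` of `g⁻¹ V` -/
theorem mu_usec' (F : EtCoh.Ab S) (V : S.Etale) (m : EtCoh.sect F V) :
    (mu f g f' g' w F).hom.app (op ((EtCoh.bc f').obj ((EtCoh.bc g).obj V)))
        (((EtCoh.pull g').obj ((EtCoh.pull f).obj F)).obj.map (theta f g f' g' w V).hom.op
          (usec g' ((EtCoh.pull f).obj F) ((EtCoh.bc f).obj V) (usec f F V m))) =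
      usec f' ((EtCoh.pull g).obj F) ((EtCoh.bc g).obj V) (usec g F V m) := by
  rw [nat_map, mu_usec, map_map_apply, Iso.hom_inv_id, map_id_apply]

end Square

end Groth.Agent.Etdl.H445.TraceCalc
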