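import Groth.Agent.Etdl.H445.TraceBC
import Groth.Agent.Sga4B.RefineInt

/-!
# The trace of a finite locally free morphism commutes with base change
-/

set_option autoImplicit false
universe u
set_option linter.unusedSectionVars false

open CategoryTheory CategoryTheory.Limits AlgebraicGeometry Opposite

namespace Groth.Agent.Etdl.H445.TraceVar2

open Groth.Agent.Sga4B.EtUnit Groth.Agent.Sga4B.TraceRel Groth.Agent.EtpbcB.BCCrit
open Groth.Agent.Sga4B.UnitInj Groth.Agent.Sga4B.ClopenRank Groth.Agent.Etdl.H445.TraceCalc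
open Groth.Agent.Etdl.H445.TraceBC Groth.Agent.Sga4B.TraceMap

theorem locSplit {X S : Scheme.{u}} (f : X ⟶ S) [IsFinite f] : LocSplit f := by
  apply Groth.Agent.Sga4B.LocSplit.locSplit
  intro V
  have : IsFinite (pr f V) :=
    MorphismProperty.of_isPullback (P := @IsFinite) (isPullback_pr f V).flip inferInstance
  exact Groth.Agent.Sga4B.RefineInt.refine_of_isIntegralHom _

/-- the trace -/
noncomputable def tr {X S : Scheme.{u}} (f : X ⟶ S) [IsFinite f] [Flat f]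
    [LocallyOfFinitePresentation f] (F : EtCoh.Ab S) :
    (EtCoh.push f).obj ((EtCoh.pull f).obj F) ⟶ F :=
  traceApp f (locSplit f) F

theorem tr_of_rel {X S : Scheme.{u}} (f : X ⟶ S) [IsFinite f] [Flat f]
    [LocallyOfFinitePresentation f] (F : EtCoh.Ab S) (V : S.Etale)
    {t : EtCoh.sect ((EtCoh.pull f).obj F) ((EtCoh.bc f).obj V)} {τ : EtCoh.sect F V}
    (h : Rel f F V t τ) : (tr f F).hom.app (op V) t = τ := by
  have e := congr($(relFst_traceApp f (locSplit f) F).app (op V) ⟨(t, τ), h⟩)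
  exact e

theorem hom_ext_rel {X S : Scheme.{u}} (f : X ⟶ S) [IsFinite f] [Flat f]
    [LocallyOfFinitePresentation f] {F G : EtCoh.Ab S}
    {a b : (EtCoh.push f).obj ((EtCoh.pull f).obj F) ⟶ G}
    (h : ∀ (V : S.Etale) (t : EtCoh.sect ((EtCoh.pull f).obj F) ((EtCoh.bc f).obj V))
      (τ : EtCoh.sect F V), Rel f F V t τ → a.hom.app (op V) t = b.hom.app (op V) t) : a = b := by
  apply hom_ext f (locSplit f)
  ext V x
  exact h V.unop x.1.1 x.1.2 x.2

/-- morphisms out of `g⁻¹ f_* f⁻¹ F` are determined on unit sections having a trace -/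
theorem pull_hom_ext_rel {X S S' : Scheme.{u}} (f : X ⟶ S) [IsFinite f] [Flat f]
    [LocallyOfFinitePresentation f] (g : S' ⟶ S) {F : EtCoh.Ab S} {G : EtCoh.Ab S'}
    {a b : (EtCoh.pull g).obj ((EtCoh.push f).obj ((EtCoh.pull f).obj F)) ⟶ G}
    (h : ∀ (V : S.Etale) (t : EtCoh.sect ((EtCoh.pull f).obj F) ((EtCoh.bc f).obj V))
      (τ : EtCoh.sect F V), Rel f F V t τ →
      a.hom.app (op ((EtCoh.bc g).obj V)) (usec g ((EtCoh.push f).obj ((EtCoh.pull f).obj F)) V t) =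
      b.hom.app (op ((EtCoh.bc g).obj V)) (usec g ((EtCoh.push f).obj ((EtCoh.pull f).obj F)) V t)) :
    a = b := by
  apply ((EtCoh.pullPushAdj g).homEquiv _ _).injective
  rw [Adjunction.homEquiv_unit, Adjunction.homEquiv_unit]
  apply hom_ext_rel f
  intro V t τ hr
  exact h V t τ hr

theorem eval_push {X S : Scheme.{u}} (f : X ⟶ S) {A : EtCoh.Ab S} {B C : EtCoh.Ab X} {D : EtCoh.Ab S}
    (a : A ⟶ (EtCoh.push f).obj B) (b : B ⟶ C) (c : (EtCoh.push f).obj C ⟶ D) (W : S.Etale)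
    (s : EtCoh.sect A W) (s' : EtCoh.sect B ((EtCoh.bc f).obj W)) (h : a.hom.app (op W) s = s') :
    (a ≫ (EtCoh.push f).map b ≫ c).hom.app (op W) s =
      c.hom.app (op W) (b.hom.app (op ((EtCoh.bc f).obj W)) s') := by
  subst h
  rfl

theorem baseChange0_usec {X S X' S' : Scheme.{u}} (f : X ⟶ S) (g : S' ⟶ S) (f' : X' ⟶ S')
    (g' : X' ⟶ X) (w : g' ≫ f = f' ≫ g) (G : EtCoh.Ab X) (V : S.Etale)
    (s : EtCoh.sect G ((EtCoh.bc f).obj V)) :
    (EtCoh.baseChange0 f g f' g' w G).hom.app (op ((EtCoh.bc g).obj V))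
      (usec g ((EtCoh.push f).obj G) V s) =
    ((EtCoh.pull g').obj G).obj.map (theta f g f' g' w V).hom.op
      (usec g' G ((EtCoh.bc f).obj V) s) := baseChange0_unit f g f' g' w G V s

theorem map_tr_usec {X S S' : Scheme.{u}} (f : X ⟶ S) (g : S' ⟶ S) [IsFinite f] [Flat f]
    [LocallyOfFinitePresentation f] (F : EtCoh.Ab S) (V : S.Etale)
    {t : EtCoh.sect ((EtCoh.pull f).obj F) ((EtCoh.bc f).obj V)} {τ : EtCoh.sect F V}
    (h : Rel f F V t τ) :
    ((EtCoh.pull g).map (tr f F)).hom.app (op ((EtCoh.bc g).obj V))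
      (usec g ((EtCoh.push f).obj ((EtCoh.pull f).obj F)) V t) = usec g F V τ := by
  have h1 := usec_natural g (tr f F) V t
  have h2 := tr_of_rel f F V h
  exact h1.trans (congrArg (usec g F V) h2)

/-- the left hand side of (Var 2) -/
noncomputable def lhs {X S X' S' : Scheme.{u}} (f : X ⟶ S) (g : S' ⟶ S) (f' : X' ⟶ S') (g' : X' ⟶ X)
    (w : g' ≫ f = f' ≫ g) [IsFinite f'] [Flat f'] [LocallyOfFinitePresentation f']
    (F : EtCoh.Ab S) :
    (EtCoh.pull g).obj ((EtCoh.push f).obj ((EtCoh.pull f).obj F)) ⟶ (EtCoh.pull g).obj F :=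
  EtCoh.baseChange0 f g f' g' w ((EtCoh.pull f).obj F) ≫
      (EtCoh.push f').map (mu f g f' g' w F) ≫ tr f' ((EtCoh.pull g).obj F)

theorem lhs_usec {X S X' S' : Scheme.{u}} (f : X ⟶ S) (g : S' ⟶ S) (f' : X' ⟶ S') (g' : X' ⟶ X)
    (w : g' ≫ f = f' ≫ g) [IsFinite f'] [Flat f'] [LocallyOfFinitePresentation f']
    (F : EtCoh.Ab S) (V : S.Etale) (t : EtCoh.sect ((EtCoh.pull f).obj F) ((EtCoh.bc f).obj V)) :
    (lhs f g f' g' w F).hom.app (op ((EtCoh.bc g).obj V))
        (usec g ((EtCoh.push f).obj ((EtCoh.pull f).obj F)) V t) =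
      (tr f' ((EtCoh.pull g).obj F)).hom.app (op ((EtCoh.bc g).obj V)) (tpull w F V t) :=
  eval_push f' (EtCoh.baseChange0 f g f' g' w ((EtCoh.pull f).obj F)) (mu f g f' g' w F)
    (tr f' ((EtCoh.pull g).obj F)) ((EtCoh.bc g).obj V)
    (usec g ((EtCoh.push f).obj ((EtCoh.pull f).obj F)) V t)
    (((EtCoh.pull g').obj ((EtCoh.pull f).obj F)).obj.map (theta f g f' g' w V).hom.op
      (usec g' ((EtCoh.pull f).obj F) ((EtCoh.bc f).obj V) t))
    (baseChange0_usec f g f' g' w ((EtCoh.pull f).obj F) V t)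

theorem lhs_eq {X S X' S' : Scheme.{u}} {f : X ⟶ S} {g : S' ⟶ S} {f' : X' ⟶ S'} {g' : X' ⟶ X}
    (sq : IsPullback g' f' f g) [IsFinite f] [Flat f] [LocallyOfFinitePresentation f]
    [IsFinite f'] [Flat f'] [LocallyOfFinitePresentation f'] (F : EtCoh.Ab S) :
    lhs f g f' g' sq.w F = (EtCoh.pull g).map (tr f F) := by
  apply pull_hom_ext_rel f g
  intro V t τ h
  rw [lhs_usec, map_tr_usec f g F V h]
  exact tr_of_rel f' _ _ (rel_baseChange sq h)

end Groth.Agent.Etdl.H445.TraceVar2
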